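import Cfsg.Agent.H892.EP.Rows
import Cfsg.Agent.H462.RealJ.JOneTwo
import Cfsg.Agent.H968.Rat.Crit
import Cfsg.Agent.H493.RatB.WitS
import Cfsg.Agent.KFacts.J2.Facts
import Cfsg.Agent.NotCT.Orders
import Cfsg.Agent.S1624

/-!
# S4929 (TEAM EVP), the rows of `J1` and `J2` (helper528)

* `J1` : cyclic Sylow `p`-subgroups, real elements;
* `J2`, `p = 3` : the real element `f` (class 3B), `C(f) = 3 × A₄` is 3-nilpotent;
* `J2`, `p = 5` : `C(P)` is a 5-group, the character of degree 36;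
* `J2`, `p = 7` : cyclic, real.
-/

set_option autoImplicit false

namespace Cfsg.Agent.H528.EP

open Cfsg Cfsg.Agent.H892.EP Subgroup

/-- Sylow `p`-subgroups of order `p` -/
theorem isCyclic_sylow {p : ℕ} [hp : Fact p.Prime] {K : Type*} [Group K] [Finite K] (h : ¬ p ^ 2 ∣ Nat.card K)
    (P : Sylow p K) : IsCyclic (P : Subgroup K) := by
  obtain ⟨k, hk⟩ := IsPGroup.iff_card.1 P.isPGroup'
  have h1 : k < 2 := by
    by_contra h2
    exact h ((pow_dvd_pow p (not_lt.1 h2)).trans (by rw [← hk]; exact Subgroup.card_subgroup_dvd_card _))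
  interval_cases k
  · have : Subsingleton (P : Subgroup K) := Finite.card_le_one_iff_subsingleton.1 (by rw [hk, pow_zero])
    exact isCyclic_of_subsingleton
  · exact isCyclic_of_prime_card (p := p) (by rw [hk, pow_one])

theorem evAt_of_real {p : ℕ} [hp : Fact p.Prime] (hp2 : p ≠ 2) {K : Type*} [Group K] [Finite K]
    (h : ¬ p ^ 2 ∣ Nat.card K) (hr : ∃ x : K, orderOf x = p ∧ IsConj x x⁻¹) : EvAt p K := by
  obtain ⟨x, hx, hr⟩ := hr
  exact evAt_of_real_cyclic hp2 (isCyclic_sylow h) hx hr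

/-! ### `J1` -/

theorem row_j1 : SpRow fun K => Spor.IsoJ1 K := by
  intro K _ _ _ h
  obtain ⟨e⟩ := h
  have hf : Finite Spor.J1 := Cfsg.Agent.H413.JOneLocal.fin_J1
  have hs : IsSimpleGroup Spor.J1 := Cfsg.Agent.SporadicB.J1.Main.isJ1.1
  have hc : Nat.card Spor.J1 = 175560 := Cfsg.Agent.H413.JOneLocal.card_J1
  refine Ev.tr e.symm fun p hp hp2 hd => ?_
  have : Fact p.Prime := ⟨hp⟩
  refine evAt_of_real hp2 ?_ (H462.RealJ.real_J1 Cfsg.Agent.H413.JOneLocal.isLocal hc hp2 hd)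
  rw [hc] at hd ⊢
  rcases H462.RealJ.prime_cases hp hd with h1 | h1 | h1 | h1 | h1 | h1 <;> subst h1
  · exact absurd rfl hp2
  all_goals norm_num

/-! ### `J2` -/

section J2

open Cfsg.Agent.J2Type Cfsg.Agent.J2Type.Base

variable {G : Type*} [Group G] [Finite G] {z u : G}

/-- `C(f)` is 3-nilpotent -/
theorem index_core (h : Fus z u) : ∃ f : G, orderOf f = 3 ∧ IsConj f f⁻¹ ∧
    (pPrimeCore 3 (centralizer ({f} : Set G))).index ∣ 3 ^ 2 := by
  obtain ⟨f, U, V, H0, F⟩ := CentU.main h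
  obtain ⟨d, hd, hdV, hdH⟩ := ThreeA.exists_d h F
  obtain ⟨t, -, htt, -, htf⟩ := ThreeE.exists_inv h F
  have h60 := ThreeA.card_H0 h F
  have hK := ThreeD.card_centralizer_f h F hd hdH
  refine ⟨f, F.f_ord, isConj_iff.2 ⟨t, htf⟩, ?_⟩
  set K := centralizer ({f} : Set G) with hKdef
  have hVK : V ≤ K := by
    intro v hv
    rw [hKdef, mem_centralizer_singleton_iff]
    exact Cent5.V_comm h F h60 hv F.f_mem
  have hdK : d ∈ K := by
    rw [hKdef, mem_centralizer_singleton_iff]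
    exact hdH f F.f_mem
  have hfK : f ∈ K := by
    rw [hKdef, mem_centralizer_singleton_iff]
  have hnorm : K ≤ normalizer (V : Set G) := by
    have h1 : V ≤ normalizer (V : Set G) ⊓ K := le_inf le_normalizer hVK
    have h2 : 4 ∣ Nat.card (normalizer (V : Set G) ⊓ K : Subgroup G) := by
      rw [← F.cardV]; exact card_dvd_of_le h1
    have h3 : 9 ∣ Nat.card (normalizer (V : Set G) ⊓ K : Subgroup G) := by
      refine ThreeE.nine_dvd h F hd hdH ?_ ?_
      · refine mem_inf.mpr ⟨?_, hfK⟩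
        refine mem_normalizer_fintype ?_
        intro v hv
        rw [← Cent5.V_comm h F h60 hv F.f_mem]
        simpa using hv
      · refine mem_inf.mpr ⟨?_, hdK⟩
        exact mem_normalizer_fintype hdV
    have h4 : 36 ∣ Nat.card (normalizer (V : Set G) ⊓ K : Subgroup G) :=
      Nat.Coprime.mul_dvd_of_dvd_of_dvd (by norm_num) h2 h3
    have h5 : normalizer (V : Set G) ⊓ K = K :=
      eq_of_le_of_card_ge inf_le_right (by rw [hK]; exact Nat.le_of_dvd Nat.card_pos h4)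
    rw [← h5]; exact inf_le_left
  have hn : (V.subgroupOf K).Normal := (normal_subgroupOf_iff_le_normalizer hVK).mpr hnorm
  have hcV : Nat.card (V.subgroupOf K) = 4 := by
    rw [Nat.card_congr (subgroupOfEquivOfLe hVK).toEquiv, F.cardV]
  have h1 : (V.subgroupOf K).index = 9 := by
    have h2 := (V.subgroupOf K).card_mul_index
    rw [hcV, hK] at h2
    omega
  have h2 : V.subgroupOf K ≤ pPrimeCore 3 K := Lib.Cores.le_pPrimeCore hn (by rw [hcV]; norm_num)
  have h3 := index_dvd_of_le h2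
  rw [h1] at h3
  exact h3

theorem evAt_j2_three (h : Fus z u) : EvAt 3 G := by
  have : Fact (Nat.Prime 3) := ⟨Nat.prime_three⟩
  obtain ⟨f, hf, hr, hi⟩ := index_core h
  intro M hM
  refine H809.Evn.exists_even_of_real hM (by norm_num) f ⟨1, by rw [hf, pow_one]⟩ (fun h1 => ?_) hr rfl ?_
  · rw [h1, orderOf_one] at hf
    norm_num at hf
  · obtain ⟨k, -, hk⟩ := (Nat.dvd_prime_pow Nat.prime_three).1 hi
    exact ⟨k, hk⟩

/-- the centralisers of the elements of prime order `≠ 5` -/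
theorem not_dvd_cent (h : Fus z u) (y : G) (hy : (orderOf y).Prime) (h5 : orderOf y ≠ 5) :
    ¬ 5 ^ 2 ∣ Nat.card (centralizer ({y} : Set G)) := by
  have hc := Order.card_of_fus h
  have hd : orderOf y ∣ 604800 := by rw [← hc]; exact orderOf_dvd_natCard y
  rcases H462.RealJ.prime_cases' hy hd with h1 | h1 | h1 | h1
  · rcases h.cover y h1 with h2 | h2
    · rw [← Cent5.card_centralizer_of_isConj h2, h.cardC]; norm_num
    · rw [← Cent5.card_centralizer_of_isConj h2, Order.card_centralizer_u h]; norm_num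
  · obtain ⟨a, b, -, -, hca, hcb, hcl, -⟩ := ThreeF.main h
    rcases hcl y h1 with h2 | h2
    · rw [Cent5.card_centralizer_of_isConj h2, hca]; norm_num
    · rw [Cent5.card_centralizer_of_isConj h2, hcb]; norm_num
  · exact absurd h1 h5
  · have : Fact (Nat.Prime 7) := ⟨by norm_num⟩
    have hP : Nat.card (zpowers y) = 7 := by rw [Nat.card_zpowers, h1]
    have hpp : ¬ 7 * 7 ∣ Nat.card G := by rw [hc]; norm_num
    obtain ⟨h2, -, -⟩ := ThreeF.sylow_seven h
      ((H858.NormC.isPGroup_of_card hP).toSylow (H858.NormC.not_dvd_index hP hpp))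
    have h3 : Nat.card (centralizer ((zpowers y : Subgroup G) : Set G)) = 7 :=
      (congrArg (fun S : Subgroup G => Nat.card S) h2).trans hP
    rw [H858.NormC.centralizer_zpowers] at h3
    rw [h3]
    norm_num

end J2

theorem evAt_j2_five : EvAt 5 Spor.J2 := by
  have : Fact (Nat.Prime 5) := ⟨by norm_num⟩
  have hJ : Nat.card Spor.J2 = 604800 := Cfsg.Agent.NotCT.Orders.j2 ⟨MulEquiv.refl _⟩
  have : Finite Spor.J2 := Nat.finite_of_card_ne_zero (by rw [hJ]; norm_num)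
  obtain ⟨t, w, Q, v, ρ, D⟩ := KFacts.J2.Facts.exists_dat_of (X := Spor.J2) ⟨MulEquiv.refl _⟩
  obtain ⟨H, h1, -, q₁, q₂, ho1, ho2⟩ := Cfsg.Agent.S1624.result
  obtain ⟨R, hR⟩ := H690.Spor.RankThree.R3.of_index H (k := 36) (l := 63) h1 ho1 ho2 (by norm_num) (by norm_num)
    (by norm_num)
  obtain ⟨χ₁, χ₂, -, -, -, hq⟩ := H968.Imc.exists_pair hR
    (fun a b => decide (a % 2 = 0 ∧ a % 5 ≠ 0) || decide (b % 2 = 0 ∧ b % 5 ≠ 0)) (by decide +kernel)
  obtain ⟨P⟩ : Nonempty (Sylow 5 Spor.J2) := inferInstance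
  have hC := H493.RatB.isPGroup_centralizer (p := 5) (a := 2) (by rw [hJ]; norm_num) (not_dvd_cent D.F) P
  intro M hM
  rw [Bool.or_eq_true, decide_eq_true_eq, decide_eq_true_eq] at hq
  rcases hq with ⟨h2, h3⟩ | ⟨h2, h3⟩
  · exact ⟨χ₁, H684.Principal.mem_of_not_dvd hM P.isPGroup' hC χ₁ (fun h4 => h3 (Nat.mod_eq_zero_of_dvd h4)),
      Nat.dvd_of_mod_eq_zero h2⟩
  · exact ⟨χ₂, H684.Principal.mem_of_not_dvd hM P.isPGroup' hC χ₂ (fun h4 => h3 (Nat.mod_eq_zero_of_dvd h4)),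
      Nat.dvd_of_mod_eq_zero h2⟩

theorem row_j2 : SpRow fun K => Spor.IsoJ2 K := by
  intro K _ _ _ h
  obtain ⟨e⟩ := h
  have hJ : Nat.card Spor.J2 = 604800 := Cfsg.Agent.NotCT.Orders.j2 ⟨MulEquiv.refl _⟩
  have : Finite Spor.J2 := Nat.finite_of_card_ne_zero (by rw [hJ]; norm_num)
  obtain ⟨t, w, Q, v, ρ, D⟩ := KFacts.J2.Facts.exists_dat_of (X := Spor.J2) ⟨MulEquiv.refl _⟩
  refine Ev.tr e.symm fun p hp hp2 hd => ?_
  have : Fact p.Prime := ⟨hp⟩
  rcases H462.RealJ.prime_cases' hp (by rw [← hJ]; exact hd) with h1 | h1 | h1 | h1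
  · exact absurd h1 hp2
  · subst h1; exact evAt_j2_three D.F
  · subst h1; exact evAt_j2_five
  · subst h1
    exact evAt_of_real hp2 (by rw [hJ]; norm_num) (H462.RealJ.real_J2 D.F hp2 hd)

end Cfsg.Agent.H528.EP
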