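import Cfsg.Agent.H528.EP.ThreeGen
import Cfsg.Agent.H173.EP.LineBound

/-!
# S3499-II UB2 for arbitrary orders (helper528)

* `ncard_gen_le` : the counting theorem of helper59 without the hypothesis on the squares of primes:
  `|𝓜| ≤ galSum |B| * c + |B| ^ 2 / 60 + |B| ^ 3 / 3600` (`|B| < 60 ^ 60`);
* `EPT.ncard_le_gen`, `EPT.index_le_gen` : the consequences for `EPT A Γ`;
* `gal_mono`, `galSum_mono`, `gal_le`, `galSum_le` : bounds for `gal`, `galSum`.
-/

set_option autoImplicit false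
set_option linter.unusedSectionVars false

namespace Cfsg.Agent.H528.EP

open Subgroup Cfsg.Agent.H59.EP Cfsg.Agent.H284

universe u

section Count

variable {B : Type u} [Group B] [Finite B]

/-- 3-generated subgroups of order at least `k` with trivial centre -/
theorem ncard_three_le {k : ℕ} (hk : 0 < k) {𝒮 : Set (Subgroup B)} (hs : ∀ X ∈ 𝒮, k ≤ Nat.card X ∧ center X = ⊥ ∧
    ∃ a b c : X, closure ({a, b, c} : Set X) = ⊤) : 𝒮.ncard ≤ Nat.card B ^ 3 / k := by
  classical
  rw [Nat.le_div_iff_mul_le hk]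
  have hfin : 𝒮.Finite := Set.toFinite _
  let G : Subgroup B → Set (B × B × B) := fun X => {p | closure ({p.1, p.2.1, p.2.2} : Set B) = X}
  have hG : ∀ X ∈ 𝒮, k ≤ (G X).ncard := by
    intro X hX
    obtain ⟨hXk, hzb, a, b, c, habc⟩ := hs X hX
    refine hXk.trans ?_
    have hcl : closure ({(a : B), (b : B), (c : B)} : Set B) = X := by
      have h1 := congrArg (Subgroup.map X.subtype) habc
      rw [MonoidHom.map_closure, Set.image_insert_eq, Set.image_pair, ← MonoidHom.range_eq_map, X.range_subtype] at h1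
      exact h1
    have hcomm : ∀ {g k x : B}, g * x * g⁻¹ = k * x * k⁻¹ → (k⁻¹ * g) * x = x * (k⁻¹ * g) := by
      intro g k x h2
      rw [mul_inv_eq_iff_eq_mul] at h2
      have h3 : k⁻¹ * (g * x) = x * k⁻¹ * g := by rw [h2]; group
      rw [mul_assoc k⁻¹ g, h3, mul_assoc]
    have hinj : Set.InjOn (fun g : B => (g * a * g⁻¹, g * b * g⁻¹, g * c * g⁻¹)) (X : Set B) := by
      intro g hg k hk e
      simp only [Prod.mk.injEq] at e
      have h1 : ∀ x ∈ X, (k⁻¹ * g) * x = x * (k⁻¹ * g) := by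
        have hle : X ≤ centralizer {k⁻¹ * g} := by
          rw [← hcl, closure_le]
          rintro x (rfl | rfl | rfl)
          · rw [SetLike.mem_coe, mem_centralizer_singleton_iff]
            exact (hcomm e.1).symm
          · rw [SetLike.mem_coe, mem_centralizer_singleton_iff]
            exact (hcomm e.2.1).symm
          · rw [SetLike.mem_coe, mem_centralizer_singleton_iff]
            exact (hcomm e.2.2).symm
        intro x hx
        exact (mem_centralizer_singleton_iff.1 (hle hx)).symm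
      have hz : (⟨k⁻¹ * g, mul_mem (inv_mem hk) hg⟩ : X) ∈ center X := by
        rw [mem_center_iff]
        intro x
        exact Subtype.ext (h1 x x.2).symm
      rw [hzb, mem_bot] at hz
      have h2 : k⁻¹ * g = 1 := Subtype.ext_iff.1 hz
      rw [inv_mul_eq_one] at h2
      exact h2.symm
    have hcard : Nat.card X =
        ((fun g : B => (g * (a : B) * g⁻¹, g * (b : B) * g⁻¹, g * (c : B) * g⁻¹)) '' (X : Set B)).ncard := by
      rw [hinj.ncard_image]
      rfl
    rw [hcard]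
    refine Set.ncard_le_ncard ?_ (Set.toFinite _)
    rintro _ ⟨g, hg, rfl⟩
    show closure ({g * (a : B) * g⁻¹, g * (b : B) * g⁻¹, g * (c : B) * g⁻¹} : Set B) = X
    have h1 : ({g * (a : B) * g⁻¹, g * (b : B) * g⁻¹, g * (c : B) * g⁻¹} : Set B) =
        (MulAut.conj g).toMonoidHom '' {(a : B), (b : B), (c : B)} := by
      rw [Set.image_insert_eq, Set.image_pair]
      rfl
    rw [h1, ← MonoidHom.map_closure, hcl]
    ext y
    constructor
    · rintro ⟨x, hx, rfl⟩
      exact X.mul_mem (X.mul_mem hg hx) (X.inv_mem hg)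
    · intro hy
      refine ⟨g⁻¹ * y * g, X.mul_mem (X.mul_mem (X.inv_mem hg) hy) hg, ?_⟩
      show g * (g⁻¹ * y * g) * g⁻¹ = y
      group
  have hdis : (hfin.toFinset : Set (Subgroup B)).PairwiseDisjoint fun X => (Set.toFinite (G X)).toFinset := by
    intro X _ Y _ hne
    rw [Function.onFun, Finset.disjoint_left]
    intro p hp hq
    rw [Set.Finite.mem_toFinset] at hp hq
    exact hne (hp.symm.trans hq)
  have h1 : (hfin.toFinset.biUnion fun X => (Set.toFinite (G X)).toFinset).card ≤ Nat.card (B × B × B) := by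
    have := Set.ncard_le_ncard (Set.subset_univ
      ((hfin.toFinset.biUnion fun X => (Set.toFinite (G X)).toFinset : Finset (B × B × B)) : Set (B × B × B)))
      (Set.toFinite _)
    rw [Set.ncard_coe_finset, Set.ncard_univ] at this
    exact this
  rw [Finset.card_biUnion hdis, Nat.card_prod, Nat.card_prod] at h1
  have h3 : Nat.card B ^ 3 = Nat.card B * (Nat.card B * Nat.card B) := by ring
  rw [h3]
  refine le_trans ?_ h1
  rw [Set.ncard_eq_toFinset_card _ hfin, ← smul_eq_mul]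
  apply Finset.card_nsmul_le_sum
  intro X hX
  rw [← Set.ncard_eq_toFinset_card _ (Set.toFinite _)]
  exact hG X (hfin.mem_toFinset.1 hX)

/-- **Counting theorem**: `𝓜` a set of subgroups `M` of `B` of index at most `c`, not abelian, with `N_B(K) ≤ M` for
all characteristic subgroups `K ≠ 1` of `M`. -/
theorem ncard_gen_le (hg : TwoGen.{u}) (hB : Nat.card B < 60 ^ 60)
    {𝓜 : Set (Subgroup B)} {c : ℕ} (hc : ∀ M ∈ 𝓜, M.index ≤ c) (hnt : ∀ M ∈ 𝓜, M ≠ ⊥)
    (hch : ∀ M ∈ 𝓜, ∀ K : Subgroup M, K.Characteristic → K ≠ ⊥ → ∀ b : B,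
      (∀ k ∈ K.map M.subtype, b * k * b⁻¹ ∈ K.map M.subtype) → b ∈ M) :
    𝓜.ncard ≤ galSum (Nat.card B) * c + Nat.card B ^ 2 / 60 + Nat.card B ^ 3 / 3600 := by
  classical
  -- the minimal characteristic subgroup
  have key : ∀ M ∈ 𝓜, ∃ X : Subgroup B, normalizer (X : Set B) = M ∧
      ((∃ s ∈ (Nat.card B).primeFactors, ElAb s X ∧ X ≠ ⊥) ∨
        ((IsSimpleGroup X ∧ ¬ Group.IsSolvable X) ∧ ∃ a b : X, closure ({a, b} : Set X) = ⊤) ∨
        (3600 ≤ Nat.card X ∧ center X = ⊥ ∧ ∃ a b c : X, closure ({a, b, c} : Set X) = ⊤)) := by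
    intro M hM
    have hMn : Nontrivial M := (Subgroup.nontrivial_iff_ne_bot M).2 (hnt M hM)
    obtain ⟨Y, hY, hYne, hYmin⟩ := exists_min_char (B := M)
    have hYn : Nontrivial Y := (Subgroup.nontrivial_iff_ne_bot Y).2 hYne
    have hYc : ∀ Z : Subgroup Y, Z.Characteristic → Z = ⊥ ∨ Z = ⊤ := by
      intro Z hZ
      by_cases hZb : Z = ⊥
      · exact Or.inl hZb
      right
      have h1 := hYmin (Z.map Y.subtype) char_trans (by
        rintro _ ⟨z, _, rfl⟩
        exact z.2) (by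
        intro e
        rw [Subgroup.map_eq_bot_iff_of_injective _ Y.subtype_injective] at e
        exact hZb e)
      rw [Subgroup.eq_top_iff']
      intro y
      have h2 : (y : M) ∈ Z.map Y.subtype := by rw [h1]; exact y.2
      obtain ⟨z, hz, e⟩ := h2
      have : z = y := Subtype.ext e
      rw [← this]
      exact hz
    set X : Subgroup B := Y.map M.subtype with hX
    have hcard : Nat.card X = Nat.card Y :=
      (Nat.card_congr (Y.equivMapOfInjective _ M.subtype_injective).toEquiv).symm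
    have e : Y ≃* X := Y.equivMapOfInjective _ M.subtype_injective
    have hXB : Nat.card Y ∣ Nat.card B := by
      rw [← hcard]
      exact Subgroup.card_subgroup_dvd_card X
    have hXne : X ≠ ⊥ := by
      intro e
      rw [hX, Subgroup.map_eq_bot_iff_of_injective _ M.subtype_injective] at e
      exact hYne e
    refine ⟨X, ?_, ?_⟩
    · apply le_antisymm
      · intro b hb
        exact hch M hM Y hY hYne b fun k hk => (mem_normalizer_iff.1 hb k).1 hk
      · intro m hm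
        have hn : Y.Normal := inferInstance
        rw [mem_normalizer_iff]
        have key : ∀ m ∈ M, ∀ k ∈ X, m * k * m⁻¹ ∈ X := by
          rintro m hm _ ⟨k, hk, rfl⟩
          exact ⟨_, hn.conj_mem k hk ⟨m, hm⟩, rfl⟩
        intro k
        refine ⟨key m hm k, fun h => ?_⟩
        have := key m⁻¹ (M.inv_mem hm) _ h
        have e : m⁻¹ * (m * k * m⁻¹) * m⁻¹⁻¹ = k := by group
        rwa [e] at this
    · have hYB : Nat.card Y < 60 ^ 60 := (Nat.le_of_dvd Nat.card_pos hXB).trans_lt hB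
      rcases char_simple' hg hYc hYB with ⟨s, hs, hsd, hel⟩ | ⟨h1, h2⟩ | ⟨h1, h2, x, y, z, h3⟩
      · left
        refine ⟨s, Nat.mem_primeFactors.2 ⟨hs, hsd.trans hXB, Nat.card_pos.ne'⟩, ⟨?_, ?_⟩, hXne⟩
        · rintro _ ⟨a, ha, rfl⟩ _ ⟨b, hb, rfl⟩
          have := hel.comm ⟨a, ha⟩ (mem_top _) ⟨b, hb⟩ (mem_top _)
          have h1 : a * b = b * a := Subtype.ext_iff.1 this
          rw [← map_mul, ← map_mul, h1]
        · rintro _ ⟨a, ha, rfl⟩
          have := hel.exp ⟨a, ha⟩ (mem_top _)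
          have h1 : a ^ s = 1 := Subtype.ext_iff.1 this
          rw [← map_pow, h1, map_one]
      · right; left
        have hXs : IsSimpleGroup X := e.symm.isSimpleGroup
        refine ⟨⟨hXs, fun h => h2 ?_⟩, hg X⟩
        exact Group.isSolvable_of_isSolvable_injective (f := e.toMonoidHom) e.injective
      · right; right
        refine ⟨by rw [hcard]; exact h1, ?_, _, _, _, closure_three_of_equiv e.symm h3⟩
        rw [Subgroup.eq_bot_iff_forall]
        intro x hx
        have h4 : e.symm x ∈ center Y := by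
          rw [mem_center_iff] at hx ⊢
          intro y
          apply e.injective
          rw [map_mul, map_mul, MulEquiv.apply_symm_apply]
          exact hx _
        rw [h2, mem_bot] at h4
        exact (MulEquiv.map_eq_one_iff e.symm).1 h4
  choose! f hf1 hf2 using key
  have hinj : Set.InjOn f 𝓜 := by
    intro M hM N hN e
    rw [← hf1 M hM, ← hf1 N hN, e]
  rw [← hinj.ncard_image]
  have hsub : f '' 𝓜 ⊆ ((⋃ s ∈ (Nat.card B).primeFactors,
      {X : Subgroup B | ElAb s X ∧ X ≠ ⊥ ∧ (normalizer (X : Set B)).index ≤ c}) ∪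
      {X : Subgroup B | (IsSimpleGroup X ∧ ¬ Group.IsSolvable X) ∧ ∃ a b : X, closure ({a, b} : Set X) = ⊤}) ∪
      {X : Subgroup B | 3600 ≤ Nat.card X ∧ center X = ⊥ ∧ ∃ a b c : X, closure ({a, b, c} : Set X) = ⊤} := by
    rintro _ ⟨M, hM, rfl⟩
    rcases hf2 M hM with ⟨s, hs, h1, h2⟩ | h | h
    · left; left
      simp only [Set.mem_iUnion]
      exact ⟨s, hs, h1, h2, by rw [hf1 M hM]; exact hc M hM⟩
    · left; right
      exact h
    · right
      exact h
  refine (Set.ncard_le_ncard hsub (Set.toFinite _)).trans ((Set.ncard_union_le _ _).trans (Nat.add_le_add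
    ((Set.ncard_union_le _ _).trans (Nat.add_le_add ?_ ?_)) ?_))
  · have hun : ∀ I : Finset ℕ, (⋃ s ∈ I, {X : Subgroup B | ElAb s X ∧ X ≠ ⊥ ∧
        (normalizer (X : Set B)).index ≤ c}).ncard ≤
        ∑ s ∈ I, {X : Subgroup B | ElAb s X ∧ X ≠ ⊥ ∧ (normalizer (X : Set B)).index ≤ c}.ncard := by
      intro I
      induction I using Finset.induction_on with
      | empty => simp
      | insert j I hj ih =>
        rw [Finset.sum_insert hj, Finset.set_biUnion_insert]
        exact (Set.ncard_union_le _ _).trans (Nat.add_le_add_left ih _)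
    refine (hun _).trans ?_
    rw [galSum, Finset.sum_mul]
    exact Finset.sum_le_sum fun s hs => ncard_elab_class_le (Nat.prime_of_mem_primeFactors hs)
  · exact ncard_simple_le (fun X hX => hX.1) (fun X hX => hX.2)
  · exact ncard_three_le (by norm_num) (fun X hX => hX)

end Count

/-! ### extremely primitive groups -/

section EPT

variable {Q : Type u} [Group Q] [Finite Q] {A : Subgroup Q} {Γ : Subgroup (MulAut Q)}

/-- the number of two-point stabilisers, `μ` a lower bound for their orders -/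
theorem EPT.ncard_le_gen_of (h : EPT A Γ) (hg : TwoGen.{u}) (hA : Nat.card A < 60 ^ 60) {μ : ℕ} (hμ0 : 0 < μ)
    (hμ : ∀ x, x ∉ A → μ ≤ Nat.card (A ⊓ cj x A : Subgroup Q)) :
    {M : Subgroup Q | ∃ x, x ∉ A ∧ M = A ⊓ cj x A}.ncard ≤
      galSum (Nat.card A) * (Nat.card A / μ) + Nat.card A ^ 2 / 60 + Nat.card A ^ 3 / 3600 := by
  classical
  set 𝓜 : Set (Subgroup A) := {M | ∃ x, x ∉ A ∧ M = (A ⊓ cj x A).subgroupOf A} with h𝓜
  have h1 : {M : Subgroup Q | ∃ x, x ∉ A ∧ M = A ⊓ cj x A}.ncard ≤ 𝓜.ncard := by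
    refine Set.ncard_le_ncard_of_injOn (fun M => M.subgroupOf A) ?_ ?_ (Set.toFinite _)
    · rintro _ ⟨x, hx, rfl⟩
      exact ⟨x, hx, rfl⟩
    · rintro _ ⟨x, _, rfl⟩ _ ⟨y, _, rfl⟩ e
      have e1 := congrArg (Subgroup.map A.subtype) e
      simp only [Subgroup.subgroupOf_map_subtype] at e1
      rw [inf_eq_left.2 (inf_le_left : A ⊓ cj x A ≤ A), inf_eq_left.2 (inf_le_left : A ⊓ cj y A ≤ A)] at e1
      exact e1
  refine h1.trans (ncard_gen_le hg hA ?_ ?_ ?_)
  · rintro _ ⟨x, hx, rfl⟩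
    have hc : Nat.card ((A ⊓ cj x A).subgroupOf A) = Nat.card (A ⊓ cj x A : Subgroup Q) :=
      Nat.card_congr (Subgroup.subgroupOfEquivOfLe inf_le_left).toEquiv
    have hmul := ((A ⊓ cj x A).subgroupOf A).card_mul_index
    rw [hc] at hmul
    rw [Nat.le_div_iff_mul_le hμ0, ← hmul, mul_comm]
    exact Nat.mul_le_mul_right _ (hμ x hx)
  · rintro _ ⟨x, hx, rfl⟩ e
    apply h.M0 x hx
    rw [Subgroup.subgroupOf_eq_bot] at e
    exact e.eq_bot_of_le inf_le_left
  · rintro _ ⟨x, hx, rfl⟩ K hK hne b hb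
    set E : (A ⊓ cj x A).subgroupOf A ≃* (A ⊓ cj x A : Subgroup Q) :=
      Subgroup.subgroupOfEquivOfLe (inf_le_left : A ⊓ cj x A ≤ A) with hE
    have hch := char_map E hK
    have hn := h.norm_char hx (K.map E.toMonoidHom) (hK := hch) (by
      intro e
      rw [Subgroup.map_eq_bot_iff_of_injective _ E.injective] at e
      exact hne e) (a := (b : Q)) b.2 (by
      rintro _ ⟨_, ⟨k, hk, rfl⟩, rfl⟩
      obtain ⟨k', hk', e'⟩ := hb _ ⟨k, hk, rfl⟩
      refine ⟨_, ⟨k', hk', rfl⟩, ?_⟩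
      have e2 := congrArg (Subtype.val) e'
      exact e2)
    exact ⟨b.2, hn⟩

/-- **UB2, all orders** -/
theorem EPT.ncard_le_gen (h : EPT A Γ) (hg : TwoGen.{u})
    (hab : ∀ K : Subgroup Q, K ≤ A → (∀ a ∈ A, ∀ k ∈ K, a * k * a⁻¹ ∈ K) → (∀ a ∈ K, ∀ b ∈ K, a * b = b * a) → K = ⊥)
    (hA : Nat.card A < 60 ^ 60) :
    {M : Subgroup Q | ∃ x, x ∉ A ∧ M = A ⊓ cj x A}.ncard ≤
      galSum (Nat.card A) * (Nat.card A / 6) + Nat.card A ^ 2 / 60 + Nat.card A ^ 3 / 3600 :=
  EPT.ncard_le_gen_of h hg hA (by norm_num) fun _ hx => EPT.six_le h hab hx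

/-- **UB1 + UB2, all orders** -/
theorem EPT.index_le_gen (hs : IsSimpleGroup Q) (h : EPT A Γ) (hg : TwoGen.{u})
    (hab : ∀ K : Subgroup Q, K ≤ A → (∀ a ∈ A, ∀ k ∈ K, a * k * a⁻¹ ∈ K) → (∀ a ∈ K, ∀ b ∈ K, a * b = b * a) → K = ⊥)
    (hA : Nat.card A < 60 ^ 60) :
    A.index ≤ 1 + (galSum (Nat.card A) * (Nat.card A / 6) + Nat.card A ^ 2 / 60 + Nat.card A ^ 3 / 3600) *
      (2 * (Nat.card A / 6)) :=
  index_le_of (EPT.ncard_le_gen h hg hab hA)
    (Cfsg.Agent.H173.EP.ub1 hs h (by norm_num) fun _ hx => EPT.six_le h hab hx) le_rfl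

end EPT

/-! ### bounds for `gal` -/

theorem gal_mono (s : ℕ) {a b : ℕ} (hs : 0 < s) (hab : a ≤ b) : gal s a ≤ gal s b := by
  unfold gal
  refine (Finset.sum_le_sum fun j _ => Nat.div_le_div_right (Finset.prod_le_prod (fun _ _ => Nat.zero_le _)
    fun i _ => Nat.sub_le_sub_right (Nat.pow_le_pow_right hs hab) _)).trans
    (Finset.sum_le_sum_of_subset (Finset.Icc_subset_Icc_right hab))

theorem galSum_mono {m n : ℕ} (hn : n ≠ 0) (hmn : m ∣ n) : galSum m ≤ galSum n := by
  unfold galSum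
  refine (Finset.sum_le_sum fun s hs => gal_mono s (Nat.prime_of_mem_primeFactors hs).pos
    ((Nat.factorization_le_iff_dvd (ne_zero_of_dvd_ne_zero hn hmn) hn).2 hmn s)).trans
    (Finset.sum_le_sum_of_subset (Nat.primeFactors_mono hmn hn))

/-- a crude bound: `[a choose j]_p ≤ p ^ (j (a + 1 - j))` -/
theorem gal_le {p a : ℕ} (hp : 2 ≤ p) : gal p a ≤ a * p ^ ((a + 1) ^ 2 / 4) := by
  unfold gal
  have h1 : ∀ j ∈ Finset.Icc 1 a, (∏ i ∈ Finset.range j, (p ^ a - p ^ i)) / (∏ i ∈ Finset.range j, (p ^ j - p ^ i)) ≤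
      p ^ ((a + 1) ^ 2 / 4) := by
    intro j hj
    rw [Finset.mem_Icc] at hj
    have h2 : ∏ i ∈ Finset.range j, (p ^ a - p ^ i) ≤ p ^ (a * j) := by
      calc ∏ i ∈ Finset.range j, (p ^ a - p ^ i) ≤ ∏ _i ∈ Finset.range j, p ^ a :=
            Finset.prod_le_prod (fun _ _ => Nat.zero_le _) fun i _ => Nat.sub_le _ _
        _ = p ^ (a * j) := by rw [Finset.prod_const, Finset.card_range, ← pow_mul]
    have h3 : p ^ ((j - 1) * j) ≤ ∏ i ∈ Finset.range j, (p ^ j - p ^ i) := by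
      calc p ^ ((j - 1) * j) = ∏ _i ∈ Finset.range j, p ^ (j - 1) := by
            rw [Finset.prod_const, Finset.card_range, ← pow_mul]
        _ ≤ _ := by
            refine Finset.prod_le_prod (fun _ _ => Nat.zero_le _) fun i hi => ?_
            rw [Finset.mem_range] at hi
            have h4 : p ^ i ≤ p ^ (j - 1) := Nat.pow_le_pow_right (by omega) (by omega)
            have h5 : 2 * p ^ (j - 1) ≤ p ^ j := by
              calc 2 * p ^ (j - 1) ≤ p * p ^ (j - 1) := Nat.mul_le_mul_right _ hp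
                _ = p ^ j := by rw [← pow_succ']; congr 1; omega
            omega
    have h6 : (∏ i ∈ Finset.range j, (p ^ a - p ^ i)) / (∏ i ∈ Finset.range j, (p ^ j - p ^ i)) ≤
        p ^ (a * j) / p ^ ((j - 1) * j) := Nat.div_le_div h2 h3 (by positivity)
    refine h6.trans ?_
    have h7 : (j - 1) * j ≤ a * j := Nat.mul_le_mul_right _ (by omega)
    rw [Nat.pow_div h7 (by omega)]
    apply Nat.pow_le_pow_right (by omega)
    rw [Nat.le_div_iff_mul_le (by norm_num)]
    obtain ⟨k, hk⟩ : ∃ k, j = k + 1 := ⟨j - 1, by omega⟩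
    subst hk
    obtain ⟨l, rfl⟩ : ∃ l, a = k + 1 + l := ⟨a - (k + 1), by omega⟩
    have e1 : (k + 1 + l) * (k + 1) - (k + 1 - 1) * (k + 1) = (l + 1) * (k + 1) := by
      have : (k + 1 + l) * (k + 1) = (k + 1 - 1) * (k + 1) + (l + 1) * (k + 1) := by
        rw [Nat.add_sub_cancel]; ring
      omega
    rw [e1]
    nlinarith [sq_nonneg ((k : ℤ) - l), sq_nonneg ((k : ℤ) + 1 - (l + 1)), mul_self_nonneg ((k : ℤ) - l)]
  calc _ ≤ ∑ _j ∈ Finset.Icc 1 a, p ^ ((a + 1) ^ 2 / 4) := Finset.sum_le_sum h1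
    _ = a * p ^ ((a + 1) ^ 2 / 4) := by rw [Finset.sum_const, Nat.card_Icc, Nat.add_sub_cancel, smul_eq_mul]

/-- the bound for `|Q|` as a function of `|A|` -/
def ubQ (N G : ℕ) : ℕ := N * (1 + (G * (N / 6) + N ^ 2 / 60 + N ^ 3 / 3600) * (2 * (N / 6)))

theorem ubQ_mono {N N' G G' : ℕ} (hN : N ≤ N') (hG : G ≤ G') : ubQ N G ≤ ubQ N' G' := by
  unfold ubQ
  gcongr

/-- **the bound for `|Q|`**: `|A|` divides `N` -/
theorem EPT.card_le_gen {Q : Type u} [Group Q] [Finite Q] {A : Subgroup Q} {Γ : Subgroup (MulAut Q)}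
    (hs : IsSimpleGroup Q) (h : EPT A Γ) (hg : TwoGen.{u})
    (hab : ∀ K : Subgroup Q, K ≤ A → (∀ a ∈ A, ∀ k ∈ K, a * k * a⁻¹ ∈ K) → (∀ a ∈ K, ∀ b ∈ K, a * b = b * a) → K = ⊥)
    {N : ℕ} (hN0 : N ≠ 0) (hAN : Nat.card A ∣ N) (hN : N < 60 ^ 60) {G : ℕ} (hG : galSum N ≤ G) :
    Nat.card Q ≤ ubQ N G := by
  have hle := Nat.le_of_dvd (Nat.pos_of_ne_zero hN0) hAN
  have h1 := EPT.index_le_gen hs h hg hab (hle.trans_lt hN)
  rw [← A.card_mul_index]
  refine (Nat.mul_le_mul_left _ h1).trans ?_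
  exact ubQ_mono hle ((galSum_mono hN0 hAN).trans hG)

/-- `galSum` from bounds for the valuations -/
theorem galSum_le_of {N B : ℕ} (hB : ∀ p, p.Prime → p ∣ N → p < B) {b : ℕ → ℕ}
    (hb : ∀ p < B, 2 ≤ p → p ∣ N → ¬ p ^ (b p + 1) ∣ N) :
    galSum N ≤ ∑ p ∈ Finset.range B, if 2 ≤ p ∧ p ∣ N then gal p (b p) else 0 := by
  unfold galSum
  have h1 : ∀ p ∈ N.primeFactors, gal p (N.factorization p) ≤ if 2 ≤ p ∧ p ∣ N then gal p (b p) else 0 := by
    intro p hp
    have hpp := Nat.prime_of_mem_primeFactors hp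
    have hpd := Nat.dvd_of_mem_primeFactors hp
    rw [if_pos ⟨hpp.two_le, hpd⟩]
    apply gal_mono _ hpp.pos
    by_contra hlt
    push Not at hlt
    exact hb p (hB p hpp hpd) hpp.two_le hpd
      ((Nat.pow_dvd_pow p (show b p + 1 ≤ N.factorization p by omega)).trans (Nat.ordProj_dvd N p))
  refine (Finset.sum_le_sum h1).trans (Finset.sum_le_sum_of_subset fun p hp => ?_)
  rw [Finset.mem_range]
  exact hB p (Nat.prime_of_mem_primeFactors hp) (Nat.dvd_of_mem_primeFactors hp)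

/-- a crude bound for `galSum` -/
theorem galSum_le {N t : ℕ} (hN : N < 2 ^ (4 * t)) : galSum N ≤ (4 * t) * ((4 * t) * 2 ^ (t * (4 * t + 3))) := by
  rcases Nat.eq_zero_or_pos N with rfl | hN0
  · simp [galSum]
  have hval : ∀ p ∈ N.primeFactors, gal p (N.factorization p) ≤ (4 * t) * 2 ^ (t * (4 * t + 3)) := by
    intro p hp
    have hpp := Nat.prime_of_mem_primeFactors hp
    set a := N.factorization p with ha
    have h1 : p ^ a ≤ N := Nat.le_of_dvd hN0 (Nat.ordProj_dvd N p)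
    have h2 : p ^ a < 2 ^ (4 * t) := h1.trans_lt hN
    have h3 : a < 4 * t := by
      have h4 : 2 ^ a ≤ p ^ a := Nat.pow_le_pow_left hpp.two_le a
      exact (Nat.pow_lt_pow_iff_right (by norm_num)).1 (h4.trans_lt h2)
    have ha1 : 1 ≤ a := (hpp.factorization_pos_of_dvd hN0.ne' (Nat.dvd_of_mem_primeFactors hp))
    refine (gal_le hpp.two_le).trans (Nat.mul_le_mul h3.le ?_)
    have h5 : (p ^ ((a + 1) ^ 2 / 4)) ^ 4 ≤ (2 ^ (t * (4 * t + 3))) ^ 4 := by
      calc (p ^ ((a + 1) ^ 2 / 4)) ^ 4 = p ^ ((a + 1) ^ 2 / 4 * 4) := by rw [← pow_mul]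
        _ ≤ p ^ (a * (a + 3)) := by
            apply Nat.pow_le_pow_right hpp.pos
            have : (a + 1) ^ 2 / 4 * 4 ≤ (a + 1) ^ 2 := Nat.div_mul_le_self _ _
            nlinarith
        _ = (p ^ a) ^ (a + 3) := by rw [← pow_mul]
        _ ≤ (2 ^ (4 * t)) ^ (a + 3) := Nat.pow_le_pow_left h2.le _
        _ ≤ (2 ^ (4 * t)) ^ (4 * t + 3) := Nat.pow_le_pow_right (by positivity) (by omega)
        _ = (2 ^ (t * (4 * t + 3))) ^ 4 := by rw [← pow_mul, ← pow_mul]; congr 1; ring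
    exact (Nat.pow_le_pow_iff_left (by norm_num)).1 h5
  have hcard : N.primeFactors.card ≤ 4 * t := by
    have h1 : 2 ^ N.primeFactors.card ≤ N := by
      calc 2 ^ N.primeFactors.card = ∏ _p ∈ N.primeFactors, 2 := by rw [Finset.prod_const]
        _ ≤ ∏ p ∈ N.primeFactors, p := Finset.prod_le_prod (fun _ _ => Nat.zero_le _) fun p hp =>
            (Nat.prime_of_mem_primeFactors hp).two_le
        _ ≤ N := Nat.le_of_dvd hN0 (Nat.prod_primeFactors_dvd N)
    exact ((Nat.pow_lt_pow_iff_right (by norm_num)).1 (h1.trans_lt hN)).le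
  unfold galSum
  calc _ ≤ ∑ _p ∈ N.primeFactors, (4 * t) * 2 ^ (t * (4 * t + 3)) := Finset.sum_le_sum hval
    _ = N.primeFactors.card * ((4 * t) * 2 ^ (t * (4 * t + 3))) := by rw [Finset.sum_const, smul_eq_mul]
    _ ≤ _ := Nat.mul_le_mul_right _ hcard

end Cfsg.Agent.H528.EP
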