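import Cfsg.Agent.H528.EP.UB3
import Cfsg.Agent.H354.EPV.Pr
import Cfsg.Agent.H991.EP.Crude
import Cfsg.Agent.H203.BdSL2
import Cfsg.Agent.S0243
import Cfsg.Agent.S0813
import Cfsg.Agent.S2086

/-!
# S3499-V: socle `PSL₂(K)` in cross characteristic, dimension at least 13 (helper528)

`cross_l2` : `Big A Γ S P`, `socle P ≃* PSL₂(K)`, `char K ≠ char F`: impossible.
-/

set_option autoImplicit false
set_option linter.unusedSectionVars false

namespace Cfsg.Agent.H528.EP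

open Subgroup Matrix Cfsg Cfsg.Agent.H59.EP Cfsg.Agent.H284 Cfsg.Agent.H419.EP

/-! ### numbers -/

/-- the valuation, with fuel -/
def vl (p : ℕ) : ℕ → ℕ → ℕ
  | 0, _ => 0
  | k + 1, N => if N % p = 0 then vl p k (N / p) + 1 else 0

/-- the bound for `galSum` -/
def gS (B N : ℕ) : ℕ := ∑ p ∈ Finset.range B, if 2 ≤ p ∧ p ∣ N then gal p (vl p 30 N) else 0

/-- `|Aut PSL₂(p^f)|` -/
def nN (p f : ℕ) : ℕ := f * (p ^ f * ((p ^ f) ^ 2 - 1))

/-- the dimension -/
def n0 (s : ℕ) : ℕ := max 13 (s / 2)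

def chkA (p f : ℕ) : Bool :=
  (List.range (p ^ f + 2)).all fun r => Nat.ble r 1 || !(nN p f % r == 0) || !(nN p f % r ^ (vl r 30 (nN p f) + 1) == 0)

def chkB (p f : ℕ) : Bool :=
  Nat.blt (8 * ubQ (nN p f) (gS (p ^ f + 2) (nN p f))) (2 ^ (n0 (p ^ f) * (n0 (p ^ f) - 1) / 2))

theorem chk_all : ((List.range 7).all fun f => (List.range 128).all fun p =>
    Nat.ble f 0 || Nat.ble p 1 || Nat.ble (p ^ f) 3 || Nat.ble 128 (p ^ f) || (chkA p f && chkB p f)) = true := by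
  decide +kernel

theorem chk_of {p f : ℕ} (hf : 1 ≤ f) (hp : 2 ≤ p) (h4 : 4 ≤ p ^ f) (h128 : p ^ f < 128) :
    chkA p f = true ∧ chkB p f = true := by
  have hf7 : f < 7 := by
    by_contra h
    push Not at h
    have h1 : 2 ^ 7 ≤ p ^ f := (Nat.pow_le_pow_left hp 7).trans (Nat.pow_le_pow_right (by omega) h)
    omega
  have hp128 : p < 128 := (Nat.le_self_pow (by omega) p).trans_lt h128
  have h1 := chk_all
  rw [List.all_eq_true] at h1
  have h2 := h1 f (List.mem_range.2 hf7)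
  rw [List.all_eq_true] at h2
  have h3 := h2 p (List.mem_range.2 hp128)
  simp only [Bool.or_eq_true, Bool.and_eq_true, Nat.ble_eq] at h3
  rcases h3 with (((h3 | h3) | h3) | h3) | h3
  · omega
  · omega
  · omega
  · omega
  · exact h3

theorem lt_of_dvd {p f r : ℕ} (hr : r.Prime) (hp : 2 ≤ p) (hf : 1 ≤ f) (h : r ∣ nN p f) : r < p ^ f + 2 := by
  have hs : 2 ≤ p ^ f := hp.trans (Nat.le_self_pow (by omega) p)
  have hfs : f < p ^ f := (Nat.lt_pow_self (by omega))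
  unfold nN at h
  rcases hr.dvd_mul.1 h with h | h
  · have := Nat.le_of_dvd (by omega) h
    omega
  · rcases hr.dvd_mul.1 h with h | h
    · have := Nat.le_of_dvd (by omega) h
      omega
    · have e : (p ^ f) ^ 2 - 1 = (p ^ f + 1) * (p ^ f - 1) := by
        have := Nat.sq_sub_sq (p ^ f) 1
        rwa [one_pow] at this
      rw [e] at h
      rcases hr.dvd_mul.1 h with h | h
      · have := Nat.le_of_dvd (by omega) h
        omega
      · have := Nat.le_of_dvd (by omega) h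
        omega

theorem nN_pos {p f : ℕ} (hp : 2 ≤ p) (hf : 1 ≤ f) : nN p f ≠ 0 := by
  have hs : 2 ≤ p ^ f := hp.trans (Nat.le_self_pow (by omega) p)
  have h1 : 2 ^ 2 ≤ (p ^ f) ^ 2 := Nat.pow_le_pow_left hs 2
  unfold nN
  exact mul_ne_zero (by omega) (mul_ne_zero (by omega) (by omega))

theorem nN_lt {p f : ℕ} (hp : 2 ≤ p) (hf : 1 ≤ f) : nN p f < (p ^ f) ^ 4 := by
  have hs : 2 ≤ p ^ f := hp.trans (Nat.le_self_pow (by omega) p)
  have hfs : f < p ^ f := (Nat.lt_pow_self (by omega))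
  unfold nN
  generalize p ^ f = s at hs hfs
  have h1 : 0 < s ^ 2 := by positivity
  calc f * (s * (s ^ 2 - 1)) ≤ s * (s * (s ^ 2 - 1)) := Nat.mul_le_mul_right _ hfs.le
    _ < s * (s * s ^ 2) := Nat.mul_lt_mul_of_pos_left (Nat.mul_lt_mul_of_pos_left (by omega) (by omega)) (by omega)
    _ = s ^ 4 := by ring

/-- the small fields -/
theorem small_bound {p f n : ℕ} (hf : 1 ≤ f) (hp : 2 ≤ p) (h4 : 4 ≤ p ^ f) (h128 : p ^ f < 128) (hn : 13 ≤ n)
    (hsn : p ^ f ≤ 2 * n + 1) : ∃ G, galSum (nN p f) ≤ G ∧ 8 * ubQ (nN p f) G < 2 ^ (n * (n - 1) / 2) := by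
  obtain ⟨hA, hB⟩ := chk_of hf hp h4 h128
  refine ⟨gS (p ^ f + 2) (nN p f), galSum_le_of (fun r hr h => lt_of_dvd hr hp hf h) (fun r hr h2 hd hd' => ?_), ?_⟩
  · rw [chkA, List.all_eq_true] at hA
    have h1 := hA r (List.mem_range.2 hr)
    simp only [Bool.or_eq_true, Nat.ble_eq, Bool.not_eq_true', beq_eq_false_iff_ne, ne_eq] at h1
    rcases h1 with (h1 | h1) | h1
    · omega
    · exact h1 (Nat.mod_eq_zero_of_dvd hd)
    · exact h1 (Nat.mod_eq_zero_of_dvd hd')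
  · rw [chkB, Nat.blt_eq] at hB
    refine hB.trans_le (Nat.pow_le_pow_right (by norm_num) (Nat.div_le_div_right ?_))
    have h1 : n0 (p ^ f) ≤ n := by
      unfold n0
      omega
    exact Nat.mul_le_mul h1 (by omega)

theorem four_mul_le {t : ℕ} (ht : 8 ≤ t) : 4 * t ≤ 2 ^ (t - 3) := by
  obtain ⟨k, rfl⟩ := Nat.exists_eq_add_of_le ht
  induction k with
  | zero => norm_num
  | succ k ih =>
    have h1 := ih (by omega)
    have h2 : 8 + (k + 1) - 3 = (8 + k - 3) + 1 := by omega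
    rw [h2, pow_succ]
    omega

/-- the bound for `cb` -/
theorem cb_le {N L : ℕ} (hN : N ≤ 2 ^ L) (i : ℕ) (hi : i ≤ L) : H991.EP.cb N i ^ 2 ≤ 2 ^ (i * (2 * L + 1 - i)) := by
  induction i with
  | zero => simp [H991.EP.cb]
  | succ i ih =>
    have h1 := ih (by omega)
    have h2 : N / 2 ^ i ≤ 2 ^ (L - i) := by
      refine (Nat.div_le_div_right hN).trans ?_
      rw [Nat.pow_div (by omega) (by norm_num)]
    have h3 : H991.EP.cb N (i + 1) = H991.EP.cb N i * (N / 2 ^ i) := rfl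
    rw [h3, mul_pow]
    refine (Nat.mul_le_mul h1 (Nat.pow_le_pow_left h2 2)).trans (le_of_eq ?_)
    rw [← pow_mul, ← pow_add]
    congr 1
    obtain ⟨k, rfl⟩ := Nat.exists_eq_add_of_le hi
    have e1 : 2 * (i + 1 + k) + 1 - i = i + 2 * k + 3 := by omega
    have e2 : i + 1 + k - i = k + 1 := by omega
    have e3 : 2 * (i + 1 + k) + 1 - (i + 1) = i + 2 * k + 2 := by omega
    rw [e1, e2, e3]
    ring

theorem sb_le {N L : ℕ} (hN : N ≤ 2 ^ L) (k : ℕ) (hk : k ≤ L) : H991.EP.sb N k ^ 2 ≤ k ^ 2 * 2 ^ (L * (L + 1)) := by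
  have h1 : ∀ i, i ≤ L → H991.EP.cb N i ^ 2 ≤ 2 ^ (L * (L + 1)) := by
    intro i hi
    refine (cb_le hN i hi).trans (Nat.pow_le_pow_right (by norm_num) ?_)
    obtain ⟨k, rfl⟩ := Nat.exists_eq_add_of_le hi
    have e1 : 2 * (i + k) + 1 - i = i + 2 * k + 1 := by omega
    rw [e1]
    nlinarith
  have h2 : ∀ k, k ≤ L → ∃ c, H991.EP.sb N k ≤ k * c ∧ c ^ 2 ≤ 2 ^ (L * (L + 1)) := by
    intro k hk
    induction k with
    | zero => exact ⟨0, by simp [H991.EP.sb], by simp⟩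
    | succ k ih =>
      obtain ⟨c, h3, h4⟩ := ih (by omega)
      refine ⟨max c (H991.EP.cb N k), ?_, ?_⟩
      · have h5 : H991.EP.sb N (k + 1) = H991.EP.sb N k + H991.EP.cb N k := rfl
        rw [h5, add_mul, one_mul]
        exact Nat.add_le_add (h3.trans (Nat.mul_le_mul_left _ (le_max_left _ _))) (le_max_right _ _)
      · rcases max_choice c (H991.EP.cb N k) with h | h <;> rw [h]
        · exact h4
        · exact h1 k (by omega)
  obtain ⟨c, h3, h4⟩ := h2 k hk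
  calc H991.EP.sb N k ^ 2 ≤ (k * c) ^ 2 := Nat.pow_le_pow_left h3 2
    _ = k ^ 2 * c ^ 2 := by rw [mul_pow]
    _ ≤ _ := Nat.mul_le_mul_left _ h4

/-- `|A| ∣ N ≤ 2 ^ L`: `|Q| ≤ L ^ 2 * 2 ^ (L (L + 2))` -/
theorem card_le_crude {Q : Type*} [Group Q] [Finite Q] {A : Subgroup Q} {Γ : Subgroup (MulAut Q)} (h : EPT A Γ)
    {N L : ℕ} (hN : N ≠ 0) (hd : Nat.card A ∣ N) (hL : N ≤ 2 ^ L) : Nat.card Q ≤ L ^ 2 * 2 ^ (L * (L + 2)) := by
  have hOm : H991.EP.Om N ≤ L := by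
    have h1 : 2 ^ H991.EP.Om N ≤ N := by
      have h2 : ∀ l : List ℕ, (∀ x ∈ l, 2 ≤ x) → 2 ^ l.length ≤ l.prod := by
        intro l hl
        induction l with
        | nil => simp
        | cons x l ih =>
          rw [List.length_cons, List.prod_cons, pow_succ']
          exact Nat.mul_le_mul (hl x (by simp)) (ih fun y hy => hl y (by simp [hy]))
      have h3 := h2 N.primeFactorsList fun x hx => (Nat.prime_of_mem_primeFactorsList hx).two_le
      rwa [Nat.prod_primeFactorsList hN] at h3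
    exact (Nat.pow_le_pow_iff_right (by norm_num)).1 (h1.trans hL)
  have h1 := H991.EP.index_le_sb h hN hd hOm
  have hA : Nat.card A ≤ 2 ^ L := (Nat.le_of_dvd (Nat.pos_of_ne_zero hN) hd).trans hL
  rw [← A.card_mul_index]
  calc Nat.card A * A.index ≤ 2 ^ L * (L ^ 2 * 2 ^ (L * (L + 1))) := Nat.mul_le_mul hA (h1.trans (sb_le hL L le_rfl))
    _ = L ^ 2 * 2 ^ (L * (L + 2)) := by
      rw [show L * (L + 2) = L + L * (L + 1) by ring, pow_add]
      ring

/-- the large fields -/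
theorem large_bound {p f n : ℕ} (hf : 1 ≤ f) (hp : 2 ≤ p) (h128 : 128 ≤ p ^ f) (hsn : p ^ f ≤ 2 * n + 1) :
    ∃ L, nN p f ≤ 2 ^ L ∧ 8 * (L ^ 2 * 2 ^ (L * (L + 2))) < 2 ^ (n * (n - 1) / 2) := by
  obtain ⟨t, ht⟩ : ∃ t, t = Nat.log 2 (p ^ f) + 1 := ⟨_, rfl⟩
  have hlt : p ^ f < 2 ^ t := by
    rw [ht]
    exact Nat.lt_pow_succ_log_self (by norm_num) _
  have hle : 2 ^ (t - 1) ≤ p ^ f := by
    rw [ht, Nat.add_sub_cancel]
    exact Nat.pow_log_le_self 2 (by omega)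
  have ht8 : 8 ≤ t := by
    by_contra h
    push Not at h
    have : 2 ^ t ≤ 2 ^ 7 := Nat.pow_le_pow_right (by norm_num) (by omega)
    omega
  refine ⟨4 * t, ?_, ?_⟩
  · refine ((nN_lt hp hf).trans_le ?_).le
    calc (p ^ f) ^ 4 ≤ (2 ^ t) ^ 4 := Nat.pow_le_pow_left hlt.le 4
      _ = 2 ^ (4 * t) := by rw [← pow_mul, mul_comm]
  have hn : 2 ^ (t - 2) ≤ n := by
    have e : 2 ^ (t - 1) = 2 * 2 ^ (t - 2) := by rw [← pow_succ']; congr 1; omega
    omega
  have b1 : 4 * t ≤ 2 ^ (2 + t) := by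
    calc 4 * t ≤ 4 * 2 ^ t := Nat.mul_le_mul_left _ Nat.lt_two_pow_self.le
      _ = 2 ^ (2 + t) := by rw [pow_add]; norm_num
  have h4 : 8 + 2 * t + 4 * t * (4 * t + 2) ≤ n * (n - 1) / 2 := by
    rw [Nat.le_div_iff_mul_le (by norm_num)]
    have c1 := four_mul_le ht8
    have e : 2 ^ (t - 2) = 2 * 2 ^ (t - 3) := by rw [← pow_succ']; congr 1; omega
    have c2 : 8 * t ≤ n := by omega
    have c3 : 8 * t * (8 * t - 1) ≤ n * (n - 1) := Nat.mul_le_mul c2 (by omega)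
    have c4 : 8 * t * (8 * t - 1) + 8 * t = 64 * (t * t) := by
      obtain ⟨k, hk⟩ : ∃ k, 8 * t = k + 1 := ⟨8 * t - 1, by omega⟩
      have : 64 * (t * t) = (8 * t) * (8 * t) := by ring
      rw [this, hk, Nat.add_sub_cancel]
      ring
    have c5 : 8 * t ≤ t * t := Nat.mul_le_mul_right _ ht8
    have c6 : 4 * t * (4 * t + 2) = 16 * (t * t) + 8 * t := by ring
    omega
  calc 8 * ((4 * t) ^ 2 * 2 ^ (4 * t * (4 * t + 2))) ≤ 2 ^ 3 * ((2 ^ (2 + t)) ^ 2 * 2 ^ (4 * t * (4 * t + 2))) :=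
        Nat.mul_le_mul (by norm_num) (Nat.mul_le_mul_right _ (Nat.pow_le_pow_left b1 2))
    _ = 2 ^ (7 + 2 * t + 4 * t * (4 * t + 2)) := by
        rw [← pow_mul, ← pow_add, ← pow_add]
        congr 1
        ring
    _ < 2 ^ (8 + 2 * t + 4 * t * (4 * t + 2)) := Nat.pow_lt_pow_right (by norm_num) (by omega)
    _ ≤ 2 ^ (n * (n - 1) / 2) := Nat.pow_le_pow_right (by norm_num) h4

/-! ### the row -/

variable {Q : Type} [Group Q] [Finite Q] {A : Subgroup Q} {Γ : Subgroup (MulAut Q)} {ι : Type} [Fintype ι]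
    [DecidableEq ι] {F : Type} [Field F] [Fintype F] {S P : Subgroup (GL ι F)}

/-- the Landazuri-Seitz bound -/
theorem card_le_of_big (b : Big A Γ S P) {K : Type} [Field K] [Fintype K] (h4 : 4 ≤ Fintype.card K)
    (hc : ringChar F ≠ ringChar K) (e : socle P ≃* ProjectiveSpecialLinearGroup (Fin 2) K) :
    Fintype.card K ≤ 2 * Fintype.card ι + 1 := by
  have hn := b.thirteen
  by_cases hexc : Fintype.card K = 4 ∨ Fintype.card K = 9
  · omega
  push Not at hexc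
  have hr : (ringChar K).Prime := by
    have := CharP.char_is_prime K (ringChar K)
    exact this
  have hF : (ringChar F).Prime := by
    have := CharP.char_is_prime F (ringChar F)
    exact this
  have hrF : ((ringChar K : ℕ) : F) ≠ 0 := by
    intro h0
    exact hc ((Nat.prime_dvd_prime_iff_eq hF hr).1 ((CharP.cast_eq_zero_iff F (ringChar F) (ringChar K)).1 h0))
  have hmult := Cfsg.Agent.S2086.result (F := K) rfl 2 le_rfl (fun _ => h4) (by
    simp only [Set.mem_insert_iff, Set.mem_singleton_iff, Prod.mk.injEq]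
    omega)
  have hd : ringChar K ∣ Fintype.card K := by
    rw [← CharP.cast_eq_zero_iff K (ringChar K)]
    exact FiniteField.cast_card_eq_zero K
  have hcop : (Nat.gcd 2 (Fintype.card K - 1)).Coprime (ringChar K) := by
    apply Nat.Coprime.coprime_dvd_left (Nat.gcd_dvd_right _ _)
    rw [Nat.coprime_comm, Nat.Prime.coprime_iff_not_dvd hr]
    intro h
    have h1 := (Nat.dvd_sub_iff_right (show 1 ≤ Fintype.card K by omega) hd).1 h
    exact hr.one_lt.ne' (Nat.dvd_one.1 h1)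
  have h1 : (Fintype.card K - 1) / Nat.gcd 2 (Fintype.card K - 1) ≤ Fintype.card ι := by
    refine Cfsg.Agent.H354.EPV.Big.le_of_bd b e hmult hcop ?_
    exact Cfsg.Agent.H203.BdSL2.bd_of_sl2 hr rfl hrF (QuotientGroup.mk' _) (by rw [QuotientGroup.ker_mk'])
  rcases Nat.even_or_odd (Fintype.card K - 1) with h2 | h2
  · rw [Nat.gcd_eq_left h2.two_dvd] at h1
    have := Nat.div_mul_cancel h2.two_dvd
    omega
  · have h3 : Nat.gcd 2 (Fintype.card K - 1) = 1 := Nat.coprime_two_left.2 h2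
    rw [h3, Nat.div_one] at h1
    omega

/-- **Socle `PSL₂(K)`, cross characteristic, dimension at least 13.** -/
theorem cross_l2 (hg : TwoGen.{0}) (b : Big A Γ S P) {K : Type} [Field K] [Fintype K] (h4 : 4 ≤ Fintype.card K)
    (hc : ringChar F ≠ ringChar K) (e : socle P ≃* ProjectiveSpecialLinearGroup (Fin 2) K) : False := by
  have hn := b.thirteen
  have hsn := card_le_of_big b h4 hc e
  obtain ⟨f, hp, hK⟩ := FiniteField.card K (ringChar K)
  have := Fact.mk hp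
  have hf : 1 ≤ (f : ℕ) := f.pos
  have hsoc : HasSoc A (ProjectiveSpecialLinearGroup (Fin 2) K) := b.hasSoc' e
  have haut : Nat.card (MulAut (ProjectiveSpecialLinearGroup (Fin 2) K)) = nN (ringChar K) f := by
    rw [Cfsg.Agent.S0813.result (ringChar K) f hf hK 2 le_rfl (fun _ => by rw [← hK]; exact h4), if_pos rfl, one_mul,
      Cfsg.Agent.ClassicalGeometry.PSL2Basic.card_PGL2, hK, nN]
  have hdvd : Nat.card A ∣ nN (ringChar K) f := by
    obtain ⟨φ, hφ⟩ := hsoc.exists_hom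
    rw [← haut]
    exact Subgroup.card_dvd_of_injective φ hφ
  have hsimple : IsSimpleGroup (ProjectiveSpecialLinearGroup (Fin 2) K) := by
    have := b.core.simple
    exact e.symm.isSimpleGroup
  have hab : ∀ K' : Subgroup Q, K' ≤ A → (∀ a ∈ A, ∀ k ∈ K', a * k * a⁻¹ ∈ K') →
      (∀ a ∈ K', ∀ b ∈ K', a * b = b * a) → K' = ⊥ := by
    intro K' h1 h2 h3
    refine b.hasSoc.no_abelian b.core.simple (fun h => b.core.nonabelian ⟨⟨h⟩⟩) h1 h2 h3
  have hord := b.ord_two le_rfl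
  rcases Nat.lt_or_ge (ringChar K ^ (f : ℕ)) 128 with h | h
  · obtain ⟨G, hG, hlt⟩ := small_bound hf hp.two_le (by rw [← hK]; exact h4) h hn (by rw [← hK]; exact hsn)
    have h5 : nN (ringChar K) f < 60 ^ 60 := by
      refine (nN_lt hp.two_le hf).trans_le ?_
      calc (ringChar K ^ (f : ℕ)) ^ 4 ≤ 128 ^ 4 := Nat.pow_le_pow_left h.le 4
        _ ≤ 60 ^ 60 := by norm_num
    have h6 := EPT.card_le_gen b.simple b.ept hg hab (nN_pos hp.two_le hf) hdvd h5 hG
    omega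
  · obtain ⟨L, hL, hlt⟩ := large_bound hf hp.two_le h (by rw [← hK]; exact hsn)
    have h6 := card_le_crude b.ept (nN_pos hp.two_le hf) hdvd hL
    omega

end Cfsg.Agent.H528.EP
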