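import Cfsg.Agent.H59.EP.UB
import Cfsg.Agent.Lib.MinNormal

/-!
# S3499-II: powers of a nonabelian simple group are generated by three elements (helper528)

* `pi_eq_top` : `H ≤ (ι → T)` contains the constant functions and an injective function: `H = ⊤`;
* `three_gen` : `T ^ m`, `m ≤ |T|`, is generated by three elements;
* `char_simple'` : a characteristically simple finite group of order less than `60 ^ 60` is elementary abelian or
  generated by three elements (and not soluble).
-/

set_option autoImplicit false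
set_option linter.unusedSectionVars false

namespace Cfsg.Agent.H528.EP

open Subgroup Cfsg.Agent.H59.EP

universe u

/-! ### powers of a simple group -/

section Pi

variable {ι T : Type*} [Finite ι] [Group T] [IsSimpleGroup T]

/-- the values at `i` of the elements of `H` which are `1` on `J` -/
def NN (H : Subgroup (ι → T)) (i : ι) (J : Set ι) : Subgroup T where
  carrier := {t | ∃ h ∈ H, h i = t ∧ ∀ j ∈ J, h j = 1}
  one_mem' := ⟨1, H.one_mem, rfl, fun _ _ => rfl⟩
  mul_mem' := by
    rintro _ _ ⟨h, hh, rfl, h1⟩ ⟨k, hk, rfl, k1⟩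
    exact ⟨h * k, H.mul_mem hh hk, rfl, fun j hj => by rw [Pi.mul_apply, h1 j hj, k1 j hj, one_mul]⟩
  inv_mem' := by
    rintro _ ⟨h, hh, rfl, h1⟩
    exact ⟨h⁻¹, H.inv_mem hh, rfl, fun j hj => by rw [Pi.inv_apply, h1 j hj, inv_one]⟩

theorem NN_normal {H : Subgroup (ι → T)} (hd : ∀ t : T, (fun _ => t) ∈ H) (i : ι) (J : Set ι) : (NN H i J).Normal := by
  refine ⟨?_⟩
  rintro _ ⟨h, hh, rfl, h1⟩ t
  refine ⟨(fun _ => t) * h * (fun _ => t)⁻¹, H.mul_mem (H.mul_mem (hd t) hh) (H.inv_mem (hd t)), rfl, fun j hj => ?_⟩
  show t * h j * t⁻¹ = 1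
  rw [h1 j hj, mul_one, mul_inv_cancel]

theorem NN_top {H : Subgroup (ι → T)} (hd : ∀ t : T, (fun _ => t) ∈ H) {i : ι} {J : Set ι} {t : T}
    (ht : t ∈ NN H i J) (h1 : t ≠ 1) : NN H i J = ⊤ := by
  have := NN_normal hd i J
  rcases this.eq_bot_or_eq_top with h | h
  · rw [h, mem_bot] at ht
    exact absurd ht h1
  · exact h

theorem pi_eq_top (hT : ¬ ∀ a b : T, a * b = b * a) {H : Subgroup (ι → T)} (hd : ∀ t : T, (fun _ => t) ∈ H)
    {c : ι → T} (hc : Function.Injective c) (hcH : c ∈ H) : H = ⊤ := by
  classical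
  have := Fintype.ofFinite ι
  have key : ∀ (i : ι) (J : Finset ι), i ∉ J → NN H i (J : Set ι) = ⊤ := by
    intro i J
    induction J using Finset.induction_on with
    | empty =>
      intro _
      rw [Subgroup.eq_top_iff']
      intro t
      exact ⟨_, hd t, rfl, fun j hj => absurd hj (by simp)⟩
    | insert j J hj ih =>
      intro hi
      rw [Finset.mem_insert, not_or] at hi
      have h1 := ih hi.2
      have h2 : NN H i {j} = ⊤ := by
        refine NN_top hd (t := (c j)⁻¹ * c i) ⟨(fun _ => (c j)⁻¹) * c, H.mul_mem (hd _) hcH, rfl, ?_⟩ ?_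
        · rintro k rfl
          show (c k)⁻¹ * c k = 1
          rw [inv_mul_cancel]
        · intro e
          exact hi.1 (hc (inv_mul_eq_one.1 e)).symm
      have h3 : ∃ a b : T, a * b * a⁻¹ * b⁻¹ ≠ 1 := by
        by_contra hcon
        push Not at hcon
        apply hT
        intro a b
        have h4 := hcon a b
        rw [mul_inv_eq_one, mul_inv_eq_iff_eq_mul] at h4
        exact h4
      obtain ⟨a, b, hab⟩ := h3
      refine NN_top hd (t := a * b * a⁻¹ * b⁻¹) ?_ hab
      have ha : a ∈ NN H i (J : Set ι) := by rw [h1]; exact mem_top _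
      have hb : b ∈ NN H i {j} := by rw [h2]; exact mem_top _
      obtain ⟨f, hf, rfl, hf1⟩ := ha
      obtain ⟨g, hg, rfl, hg1⟩ := hb
      refine ⟨f * g * f⁻¹ * g⁻¹, H.mul_mem (H.mul_mem (H.mul_mem hf hg) (H.inv_mem hf)) (H.inv_mem hg), rfl, ?_⟩
      intro k hk
      show f k * g k * (f k)⁻¹ * (g k)⁻¹ = 1
      rw [Finset.coe_insert, Set.mem_insert_iff] at hk
      rcases hk with rfl | hk
      · rw [hg1 k rfl, mul_one, mul_inv_cancel, inv_one, mul_one]
      · rw [hf1 k hk, one_mul, inv_one, mul_one, mul_inv_cancel]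
  rw [Subgroup.eq_top_iff']
  intro g
  refine Subgroup.pi_mem_of_mulSingle_mem g fun i => ?_
  have h1 : g i ∈ NN H i ((Finset.univ.erase i : Finset ι) : Set ι) := by
    rw [key i _ (Finset.notMem_erase i _)]
    exact mem_top _
  obtain ⟨h, hh, h2, h3⟩ := h1
  have h4 : h = Pi.mulSingle i (g i) := by
    funext j
    by_cases hj : j = i
    · subst hj
      rw [Pi.mulSingle_eq_same, h2]
    · rw [Pi.mulSingle_eq_of_ne hj, h3 j (by simpa using hj)]
  rw [← h4]
  exact hh

/-- `T ^ m` is generated by three elements for `m ≤ |T|` -/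
theorem three_gen [Finite T] (hT : ¬ ∀ a b : T, a * b = b * a) {a b : T} (hab : closure ({a, b} : Set T) = ⊤)
    {m : ℕ} (hm : m ≤ Nat.card T) : ∃ x y z : Fin m → T, closure ({x, y, z} : Set (Fin m → T)) = ⊤ := by
  obtain ⟨c, hc⟩ : ∃ c : Fin m → T, Function.Injective c := by
    have := Fintype.ofFinite T
    have h1 : Fintype.card (Fin m) ≤ Fintype.card T := by
      rw [Fintype.card_fin, ← Nat.card_eq_fintype_card]
      exact hm
    exact ⟨_, (Function.Embedding.nonempty_of_card_le h1).some.injective⟩
  refine ⟨fun _ => a, fun _ => b, c, pi_eq_top hT (c := c) ?_ hc (subset_closure (by simp))⟩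
  intro t
  have h1 : t ∈ closure ({a, b} : Set T) := by rw [hab]; exact mem_top _
  have h2 : closure ({a, b} : Set T) ≤
      (closure ({(fun _ => a), (fun _ => b), c} : Set (Fin m → T))).comap (Pi.constMonoidHom (Fin m) T) := by
    rw [closure_le]
    rintro x (rfl | rfl)
    · exact subset_closure (by left; rfl)
    · exact subset_closure (by right; left; rfl)
  exact h2 h1

end Pi

/-! ### characteristically simple groups -/

section Char

variable {X : Type u} [Group X] [Finite X]

/-- a characteristically simple group is a power of a simple group -/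
theorem exists_pi [Nontrivial X] (hc : ∀ Y : Subgroup X, Y.Characteristic → Y = ⊥ ∨ Y = ⊤) :
    ∃ (T : Type u) (_ : Group T) (m : ℕ), Finite T ∧ IsSimpleGroup T ∧ 0 < m ∧ Nonempty (X ≃* (Fin m → T)) := by
  let G := SemidirectProduct X (MulAut X) (MonoidHom.id _)
  have hfin : Finite G := Finite.of_equiv _ SemidirectProduct.equivProd.symm
  let N : Subgroup G := (SemidirectProduct.inl : X →* G).range
  have hNn : N.Normal := by
    have : N = (SemidirectProduct.rightHom : G →* MulAut X).ker := SemidirectProduct.range_inl_eq_ker_rightHom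
    rw [this]
    infer_instance
  have e : X ≃* N := MonoidHom.ofInjective SemidirectProduct.inl_injective
  have hN : N ≠ ⊥ := by
    intro h
    obtain ⟨x, hx⟩ := exists_ne (1 : X)
    have h1 : (SemidirectProduct.inl x : G) ∈ N := ⟨x, rfl⟩
    rw [h, mem_bot] at h1
    exact hx (SemidirectProduct.inl_injective (h1.trans (map_one _).symm))
  have hmin : ∀ M : Subgroup G, M.Normal → M ≤ N → M = ⊥ ∨ M = N := by
    intro M hM hMN
    have hch : (M.comap (SemidirectProduct.inl : X →* G)).Characteristic := by
      rw [characteristic_iff_map_le]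
      rintro φ _ ⟨x, hx, rfl⟩
      have h1 := hM.conj_mem _ hx (SemidirectProduct.inr φ)
      have h2 : (SemidirectProduct.inr φ : G) * SemidirectProduct.inl x * (SemidirectProduct.inr φ)⁻¹ =
          SemidirectProduct.inl (φ x) := by
        have := SemidirectProduct.inl_aut (φ := MonoidHom.id (MulAut X)) φ x
        rw [← map_inv]
        exact this.symm
      rw [h2] at h1
      exact h1
    rcases hc _ hch with h | h
    · left
      rw [Subgroup.eq_bot_iff_forall]
      intro g hg
      obtain ⟨x, rfl⟩ := hMN hg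
      have h1 : x ∈ M.comap (SemidirectProduct.inl : X →* G) := hg
      rw [h, mem_bot] at h1
      rw [h1, map_one]
    · right
      apply le_antisymm hMN
      rintro _ ⟨x, rfl⟩
      have h1 : x ∈ M.comap (SemidirectProduct.inl : X →* G) := by rw [h]; exact mem_top _
      exact h1
  obtain ⟨T, m, -, hT, hm, ⟨f⟩⟩ := Cfsg.Agent.Lib.MinNormal.exists_mulEquiv_pi N hN hmin
  exact ⟨T, inferInstance, m, inferInstance, hT, hm, ⟨e.trans f⟩⟩

theorem closure_three_of_equiv {Y : Type*} [Group Y] (e : X ≃* Y) {x y z : Y} (h : closure ({x, y, z} : Set Y) = ⊤) :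
    closure ({e.symm x, e.symm y, e.symm z} : Set X) = ⊤ := by
  have h1 : (closure ({x, y, z} : Set Y)).map e.symm.toMonoidHom = closure ({e.symm x, e.symm y, e.symm z} : Set X) := by
    rw [MonoidHom.map_closure]
    congr 1
    ext w
    simp only [Set.mem_image, Set.mem_insert_iff, Set.mem_singleton_iff]
    constructor
    · rintro ⟨v, rfl | rfl | rfl, rfl⟩
      · left; rfl
      · right; left; rfl
      · right; right; rfl
    · rintro (rfl | rfl | rfl)
      · exact ⟨x, Or.inl rfl, rfl⟩
      · exact ⟨y, Or.inr (Or.inl rfl), rfl⟩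
      · exact ⟨z, Or.inr (Or.inr rfl), rfl⟩
  rw [← h1, h, ← MonoidHom.range_eq_map]
  exact MonoidHom.range_eq_top.2 e.symm.surjective

/-- **Characteristically simple groups** of order less than `60 ^ 60`: elementary abelian, simple, or 3-generated with
trivial centre and of order at least 3600. -/
theorem char_simple' [Nontrivial X] (hg : TwoGen.{u}) (hc : ∀ Y : Subgroup X, Y.Characteristic → Y = ⊥ ∨ Y = ⊤)
    (hX : Nat.card X < 60 ^ 60) :
    (∃ s : ℕ, s.Prime ∧ s ∣ Nat.card X ∧ ElAb s (⊤ : Subgroup X)) ∨ (IsSimpleGroup X ∧ ¬ Group.IsSolvable X) ∨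
      (3600 ≤ Nat.card X ∧ center X = ⊥ ∧ ∃ x y z : X, closure ({x, y, z} : Set X) = ⊤) := by
  by_cases hcomm : ∀ a b : X, a * b = b * a
  · left
    obtain ⟨s, hs, hsd⟩ := Nat.exists_prime_and_dvd (n := Nat.card X) (by
      have := Finite.one_lt_card (α := X)
      omega)
    have : Fact s.Prime := ⟨hs⟩
    obtain ⟨x, hx⟩ := exists_prime_orderOf_dvd_card' s hsd
    let Y : Subgroup X :=
      { carrier := {y | y ^ s = 1}
        one_mem' := one_pow s
        mul_mem' := fun {a b} ha hb => by
          show (a * b) ^ s = 1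
          rw [(show Commute a b from hcomm a b).mul_pow, show a ^ s = 1 from ha, show b ^ s = 1 from hb, one_mul]
        inv_mem' := fun {a} ha => by
          show a⁻¹ ^ s = 1
          rw [inv_pow, show a ^ s = 1 from ha, inv_one] }
    have hY : Y.Characteristic := by
      rw [characteristic_iff_map_le]
      rintro φ _ ⟨y, hy, rfl⟩
      show (φ y) ^ s = 1
      rw [← map_pow, show y ^ s = 1 from hy, map_one]
    refine ⟨s, hs, hsd, fun a _ b _ => hcomm a b, ?_⟩
    rcases hc Y hY with h | h
    · exfalso
      have h1 : x ∈ Y := by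
        show x ^ s = 1
        rw [← hx, pow_orderOf_eq_one]
      rw [h, mem_bot] at h1
      rw [h1, orderOf_one] at hx
      exact hs.one_lt.ne hx
    · intro a _
      have h1 : a ∈ Y := by rw [h]; exact mem_top _
      exact h1
  · right
    obtain ⟨T, _, m, hTf, hT, hm0, ⟨e⟩⟩ := exists_pi hc
    have hTc : ¬ ∀ a b : T, a * b = b * a := by
      intro h
      apply hcomm
      intro a b
      apply e.injective
      rw [map_mul, map_mul]
      funext i
      exact h _ _
    have hTs : ¬ Group.IsSolvable T := by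
      intro hs
      apply hTc
      intro a b
      exact IsSimpleGroup.comm_iff_isSolvable.2 hs a b
    have h60 : 60 ≤ Nat.card T := Cfsg.Agent.H168.NoSolv.sixty_le hTs
    have hcard : Nat.card X = Nat.card T ^ m := by
      rw [Nat.card_congr e.toEquiv, Nat.card_fun, Nat.card_eq_fintype_card (α := Fin m), Fintype.card_fin]
    rcases Nat.lt_or_ge m 2 with hm2 | hm2
    · left
      have hm1 : m = 1 := by omega
      subst hm1
      have e1 : X ≃* T := e.trans (MulEquiv.piUnique fun _ : Fin 1 => T)
      refine ⟨e1.isSimpleGroup, fun h => hTs ?_⟩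
      exact Group.isSolvable_of_isSolvable_injective (f := e1.symm.toMonoidHom) e1.symm.injective
    right
    have hm : m ≤ Nat.card T := by
      by_contra hlt
      push Not at hlt
      have h1 : 60 ^ 60 ≤ Nat.card T ^ m :=
        (Nat.pow_le_pow_left h60 60).trans (Nat.pow_le_pow_right (by omega) (by omega))
      omega
    obtain ⟨a, b, hab⟩ := hg T
    obtain ⟨x, y, z, h⟩ := three_gen hTc hab hm
    refine ⟨?_, ?_, _, _, _, closure_three_of_equiv e h⟩
    · rw [hcard]
      calc 3600 = 60 ^ 2 := by norm_num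
        _ ≤ Nat.card T ^ 2 := Nat.pow_le_pow_left h60 2
        _ ≤ Nat.card T ^ m := Nat.pow_le_pow_right (by omega) hm2
    · rcases hc (center X) inferInstance with h1 | h1
      · exact h1
      · exfalso
        apply hcomm
        intro a b
        have h2 : b ∈ center X := by rw [h1]; exact mem_top _
        exact mem_center_iff.1 h2 a

end Char

end Cfsg.Agent.H528.EP
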